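import Groth.Agent.QFDualLib.Basic
import Mathlib

/-!
# Finite flat algebras étale in codimension one are étale
-/

set_option autoImplicit false
set_option linter.style.haveILetI false
universe u v

namespace EtCodim2Lib

theorem discr_ideal_height_le_one {A : Type u} [CommRing A] [IsNoetherianRing A] {d : A} {p : Ideal A}
    (hp : p ∈ (Ideal.span {d}).minimalPrimes) : p.height ≤ 1 :=
  haveI : (Ideal.span {d}).IsPrincipal := ⟨d, rfl⟩
  Ideal.height_le_one_of_isPrincipal_of_mem_minimalPrimes _ _ hp

/-- Free case. -/
theorem etale_of_free {A : Type u} {B : Type v} [CommRing A] [CommRing B] [Algebra A B] [IsNoetherianRing A]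
    [Module.Finite A B] [Module.Free A B]
    (h : ∀ (Q : Ideal B) [Q.IsPrime], (Q.comap (algebraMap A B)).height ≤ 1 → Algebra.IsEtaleAt A Q) :
    Algebra.Etale A B := by
  classical
  haveI : Module.FinitePresentation A B := Module.finitePresentation_of_projective A B
  haveI : Algebra.FinitePresentation A B := inferInstance
  let b := Module.Free.chooseBasis A B
  by_cases hd : IsUnit (Algebra.discr A b)
  · haveI := QFDualLib.formallyUnramified_of_isUnit_discr b hd
    exact Algebra.Etale.of_formallyUnramified_of_flat
  exfalso
  obtain ⟨p, hp⟩ := Ideal.nonempty_minimalPrimes (I := Ideal.span {Algebra.discr A b}) (by rwa [Ne, Ideal.span_singleton_eq_top])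
  haveI := hp.1.1
  have hht := discr_ideal_height_le_one hp
  have hint : (algebraMap A B).IsIntegral := fun x => Algebra.IsIntegral.isIntegral x
  have hclosed : IsClosed (PrimeSpectrum.comap (algebraMap A B) '' (Algebra.etaleLocus A B)ᶜ) :=
    PrimeSpectrum.isClosedMap_comap_of_isIntegral (algebraMap A B) hint _ Algebra.isOpen_etaleLocus.isClosed_compl
  have hnot : (⟨p, inferInstance⟩ : PrimeSpectrum A) ∉ PrimeSpectrum.comap (algebraMap A B) '' (Algebra.etaleLocus A B)ᶜ := by
    rintro ⟨Q, hQ, hQp⟩
    refine hQ (h Q.asIdeal ?_)
    rw [show Q.asIdeal.comap (algebraMap A B) = p from congrArg PrimeSpectrum.asIdeal hQp]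
    exact hht
  obtain ⟨_, ⟨a, rfl⟩, hpa, hsub⟩ :=
    PrimeSpectrum.isTopologicalBasis_basic_opens.exists_subset_of_mem_open (Set.mem_compl hnot) hclosed.isOpen_compl
  let M := Submonoid.powers a
  let L := Localization (Algebra.algebraMapSubmonoid B M)
  haveI : IsLocalization.Away (algebraMap A B a) L := by
    rw [IsLocalization.Away, ← Submonoid.map_powers]
    exact (inferInstance : IsLocalization (Algebra.algebraMapSubmonoid B M) L)
  have hloc : ↑(PrimeSpectrum.basicOpen (algebraMap A B a)) ⊆ Algebra.etaleLocus A B := fun Q hQ => by
    by_contra hne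
    exact hsub (show PrimeSpectrum.comap (algebraMap A B) Q ∈ PrimeSpectrum.basicOpen a from hQ) ⟨Q, hne, rfl⟩
  haveI : Algebra.Etale A (Localization.Away (algebraMap A B a)) := Algebra.basicOpen_subset_etaleLocus_iff_etale.1 hloc
  haveI : Algebra.Etale A L :=
    Algebra.Etale.of_equiv ((IsLocalization.algEquiv (Submonoid.powers (algebraMap A B a))
      (Localization.Away (algebraMap A B a)) L).restrictScalars A)
  let A' := Localization M
  haveI : Algebra.Etale A A' := Algebra.Etale.of_isLocalizationAway a
  haveI : Algebra.Etale A' L := Algebra.Etale.of_restrictScalars (R := A) (A := A') (B := L)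
  let b' := b.localizationLocalization A' M L
  have hu : IsUnit (algebraMap A A' (Algebra.discr A b)) := by
    rw [← QFDualLib.discr_map b b' (fun i => b.localizationLocalization_apply A' M L i)]
    exact QFDualLib.isUnit_discr_of_etale b'
  haveI : IsLocalization.Away a A' := Localization.isLocalization
  obtain ⟨n, hn⟩ := (IsLocalization.Away.algebraMap_isUnit_iff (S := A') a).1 hu
  exact hpa (‹p.IsPrime›.mem_of_pow_mem n (Ideal.mem_of_dvd _ hn (hp.1.2 (Ideal.mem_span_singleton_self _))))

/-- A finite flat algebra over a noetherian ring which is étale over all primes of height at most one is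
étale. -/
theorem etale_of_codim_one {A : Type u} {B : Type v} [CommRing A] [CommRing B] [Algebra A B] [IsNoetherianRing A]
    [Module.Finite A B] [Module.Flat A B]
    (h : ∀ (Q : Ideal B) [Q.IsPrime], (Q.comap (algebraMap A B)).height ≤ 1 → Algebra.IsEtaleAt A Q) :
    Algebra.Etale A B := by
  classical
  haveI : Module.FinitePresentation A B := Module.finitePresentation_of_finite A B
  haveI : Algebra.FinitePresentation A B := inferInstance
  rw [← Algebra.etaleLocus_eq_univ_iff_etale, Set.eq_univ_iff_forall]
  intro Q
  let p : Ideal A := Q.asIdeal.comap (algebraMap A B)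
  let M := p.primeCompl
  let A' := Localization.AtPrime p
  let B' := Localization (Algebra.algebraMapSubmonoid B M)
  haveI : IsLocalizedModule M (IsScalarTower.toAlgHom A B B').toLinearMap :=
    isLocalizedModule_iff_isLocalization.2 (inferInstance : IsLocalization (Algebra.algebraMapSubmonoid B M) B')
  haveI : Module.Finite A' B' := Module.Finite.of_isLocalizedModule M (IsScalarTower.toAlgHom A B B').toLinearMap
  haveI : Module.Flat A B' := Module.Flat.trans A B B'
  haveI : Module.Flat A' B' := (Module.flat_iff_of_isLocalization A' M B').2 inferInstance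
  haveI : Module.Free A' B' := Module.free_of_flat_of_isLocalRing
  have hB' : Algebra.Etale A' B' := by
    refine etale_of_free fun Q' hQ' hht => ?_
    haveI := hQ'
    haveI := IsLocalization.isLocalization_isLocalization_atPrime_isLocalization (Algebra.algebraMapSubmonoid B M) (Localization.AtPrime Q') Q'
    haveI : Algebra.FormallyEtale A (Localization.AtPrime (Q'.comap (algebraMap B B'))) :=
      h _ (by
        rw [Ideal.comap_comap, ← IsScalarTower.algebraMap_eq, IsScalarTower.algebraMap_eq A A' B', ← Ideal.comap_comap]
        rw [← IsLocalization.height_under M] at hht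
        exact hht)
    haveI : Algebra.FormallyEtale A (Localization.AtPrime Q') :=
      Algebra.FormallyEtale.of_equiv ((IsLocalization.algEquiv (Q'.comap (algebraMap B B')).primeCompl
        (Localization.AtPrime (Q'.comap (algebraMap B B'))) (Localization.AtPrime Q')).restrictScalars A)
    exact Algebra.FormallyEtale.of_restrictScalars (R := A) (A := A') (B := Localization.AtPrime Q')
  haveI := hB'
  haveI : Algebra.FormallyEtale A A' := Algebra.FormallyEtale.of_isLocalization M
  haveI : Algebra.FormallyEtale A B' := Algebra.FormallyEtale.comp A A' B'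
  have hdis : Disjoint (Algebra.algebraMapSubmonoid B M : Set B) (Q.asIdeal : Set B) :=
    Set.disjoint_left.2 fun x ⟨c, hc, hx⟩ hxQ => hc (show algebraMap A B c ∈ Q.asIdeal from hx ▸ hxQ)
  let Q' : Ideal B' := Q.asIdeal.map (algebraMap B B')
  haveI hQ' : Q'.IsPrime := IsLocalization.isPrime_of_isPrime_disjoint _ B' _ inferInstance hdis
  have hQQ : Q'.comap (algebraMap B B') = Q.asIdeal :=
    IsLocalization.comap_map_of_isPrime_disjoint _ B' inferInstance hdis
  haveI := IsLocalization.isLocalization_isLocalization_atPrime_isLocalization (Algebra.algebraMapSubmonoid B M) (Localization.AtPrime Q') Q'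
  haveI : Algebra.FormallyEtale B' (Localization.AtPrime Q') := Algebra.FormallyEtale.of_isLocalization Q'.primeCompl
  haveI : Algebra.FormallyEtale A (Localization.AtPrime Q') := Algebra.FormallyEtale.comp A B' _
  have key : Algebra.IsEtaleAt A (Q'.comap (algebraMap B B')) :=
    Algebra.FormallyEtale.of_equiv ((IsLocalization.algEquiv (Q'.comap (algebraMap B B')).primeCompl
      (Localization.AtPrime Q') (Localization.AtPrime (Q'.comap (algebraMap B B')))).restrictScalars A)
  show Algebra.IsEtaleAt A Q.asIdeal
  convert key using 1
  exact hQQ.symm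

end EtCodim2Lib
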